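import Groth.Agent.TorsorPushLib.Datum
import Groth.Agent.SubDesc.Family

/-!
# Extension of the structure group of an fpqc torsor
-/

set_option autoImplicit false
set_option linter.style.haveILetI false
set_option backward.isDefEq.respectTransparency false
set_option backward.isDefEq.respectTransparency.types false

universe u

open CategoryTheory CategoryTheory.Limits MonoidalCategory CartesianMonoidalCategory MonObj
  AlgebraicGeometry

noncomputable section

namespace Groth.Agent.TorsorPush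

variable {S : Scheme.{u}}

theorem isPullback_whiskerLeft {B B' : Over S} (A : Over S) (f : B ⟶ B') :
    IsPullback (A ◁ f).left (snd A B).left (snd A B').left f.left := by
  refine IsPullback.of_right ?_ ?_ (IsPullback.of_hasPullback A.hom B'.hom)
  · have e₁ : (A ◁ f).left ≫ pullback.fst A.hom B'.hom = pullback.fst A.hom B.hom :=
      congrArg (fun k => k.left) (CartesianMonoidalCategory.whiskerLeft_fst A f)
    rw [e₁, Over.w f]
    exact IsPullback.of_hasPullback A.hom B.hom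
  · exact congrArg (fun k => k.left) (CartesianMonoidalCategory.whiskerLeft_snd A f)

theorem isFpqc_whiskerLeft {B B' : Over S} (A : Over S) (f : B ⟶ B') [SchDesc.IsFpqc f.left] :
    SchDesc.IsFpqc (A ◁ f).left :=
  SchDesc.IsFpqc.of_isPullback (isPullback_whiskerLeft A f).flip

theorem epi_of_isFpqc {B B' : Over S} (f : B ⟶ B') [SchDesc.IsFpqc f.left] : Epi f :=
  ⟨fun g g' h => Over.OverMorphism.ext ((cancel_epi f.left).1 (congrArg (fun k => k.left) h))⟩

theorem exists_desc {B B' Z : Over S} (f : B ⟶ B') [SchDesc.IsFpqc f.left] (m : B ⟶ Z)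
    (h : ∀ (Y : Over S) (a b : Y ⟶ B), a ≫ f = b ≫ f → a ≫ m = b ≫ m) :
    ∃ g : B' ⟶ Z, f ≫ g = m := by
  have hab : ∀ {Y : Scheme.{u}} (a b : Y ⟶ B.left), a ≫ f.left = b ≫ f.left → a ≫ m.left = b ≫ m.left :=
    fun {Y} a b e => by
      have hb : b ≫ B.hom = a ≫ B.hom := by rw [← Over.w f, ← reassoc_of% e]
      exact congrArg (fun k => k.left)
        (h (Over.mk (a ≫ B.hom)) (Over.homMk a) (Over.homMk b hb) (Over.OverMorphism.ext e))
  let g₀ : B'.left ⟶ Z.left := EffectiveEpi.desc f.left m.left fun a b e => hab a b e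
  have hg₀ : f.left ≫ g₀ = m.left := EffectiveEpi.fac _ _ _
  exact ⟨Over.homMk g₀ ((cancel_epi f.left).1 (by rw [reassoc_of% hg₀, Over.w m, Over.w f])),
    Over.OverMorphism.ext hg₀⟩

variable {J J' : Over S} [GrpObj J] [GrpObj J'] [IsAffineHom J'.hom] (u : J ⟶ J') [IsMonHom u]

/-- Extension of the structure group exists. -/
theorem exists_pushforward (P : NonAbH1.TorsorSch J Scheme.fpqcPrecoverage) :
    ∃ P' : NonAbH1.TorsorSch J' Scheme.fpqcPrecoverage, NonAbH1.IsPushforwardAlongSch u P.act P'.act := by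
  obtain ⟨T, σ, hT, -⟩ := TorsorDesc.exists_trivializing P.act P.isTorsor
  haveI := hT
  have tP : Trans P.act := (PrincBundLib.isIso_lift_snd_iff P.act.act).mp P.isTorsor.1
  obtain ⟨P', q, hsq, hq, hinv⟩ := exists_quotient u tP σ
  haveI := hq
  have hext : ∀ {Y : Over S} (w w' : Y ⟶ J' ⊗ T), w ≫ snd J' T = w' ≫ snd J' T → w ≫ q = w' ≫ q → w = w' :=
    fun w w' h1 h2 => Over.OverMorphism.ext
      (hsq.hom_ext (congrArg (fun k => k.left) h1) (congrArg (fun k => k.left) h2))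
  have hmv : ∀ {Y : Over S} (w w' : Y ⟶ J' ⊗ T), w ≫ q = w' ≫ q → w' = mv u tP σ w (w' ≫ snd J' T) :=
    fun w w' h => hext _ _ (mv_snd u tP σ w _).symm (by rw [hinv, h])
  have hlift : ∀ {Y : Over S} (z : Y ⟶ P') (x : Y ⟶ T), ∃ w : Y ⟶ J' ⊗ T, w ≫ snd J' T = x ∧ w ≫ q = z := by
    intro Y z x
    obtain ⟨w₀, h1, h2⟩ := hsq.exists_lift x.left z.left ((Over.w x).trans (Over.w z).symm)
    have hw₀ : w₀ ≫ (J' ⊗ T).hom = Y.hom := by
      rw [← Over.w (snd J' T), reassoc_of% h1, Over.w x]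
    exact ⟨Over.homMk w₀ hw₀, Over.OverMorphism.ext h1, Over.OverMorphism.ext h2⟩
  -- the action
  haveI := isFpqc_whiskerLeft J' q
  let mA : J' ⊗ (J' ⊗ T) ⟶ P' :=
    lift (fst J' (J' ⊗ T) * (snd J' (J' ⊗ T) ≫ fst J' T)) (snd J' (J' ⊗ T) ≫ snd J' T) ≫ q
  have hmA : ∀ {Y : Over S} (c : Y ⟶ J') (w : Y ⟶ J' ⊗ T),
      lift c w ≫ mA = lift (c * (w ≫ fst J' T)) (w ≫ snd J' T) ≫ q := fun c w => by
    simp only [mA, comp_lift_assoc, MonObj.comp_mul, lift_fst, lift_snd_assoc]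
  obtain ⟨act, hact₀⟩ := exists_desc (J' ◁ q) mA fun Y x y e => by
    have e₁ : x ≫ fst J' (J' ⊗ T) = y ≫ fst J' (J' ⊗ T) := by
      simpa using congrArg (· ≫ fst J' P') e
    have e₂ : (x ≫ snd J' (J' ⊗ T)) ≫ q = (y ≫ snd J' (J' ⊗ T)) ≫ q := by
      simpa using congrArg (· ≫ snd J' P') e
    rw [show x = lift (x ≫ fst J' (J' ⊗ T)) (x ≫ snd J' (J' ⊗ T)) by rw [← comp_lift, lift_fst_snd, Category.comp_id],
      show y = lift (y ≫ fst J' (J' ⊗ T)) (y ≫ snd J' (J' ⊗ T)) by rw [← comp_lift, lift_fst_snd, Category.comp_id],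
      hmA, hmA, e₁]
    set w := x ≫ snd J' (J' ⊗ T)
    set w' := y ≫ snd J' (J' ⊗ T)
    set c := y ≫ fst J' (J' ⊗ T)
    rw [hmv w w' e₂, mv_snd]
    conv_lhs => rw [← hinv _ (lift (c * (w ≫ fst J' T)) (w ≫ snd J' T)) (w' ≫ snd J' T)]
    simp only [mv, lift_fst, lift_snd, _root_.mul_assoc]
  have hact : ∀ {Y : Over S} (c : Y ⟶ J') (w : Y ⟶ J' ⊗ T),
      lift c (w ≫ q) ≫ act = lift (c * (w ≫ fst J' T)) (w ≫ snd J' T) ≫ q := fun c w => by
    rw [← hmA, ← hact₀, lift_whiskerLeft_assoc]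
  haveI : Epi q := epi_of_isFpqc q
  let a' : AlgGrp.Action J' P' :=
    { act := act
      one_act := by
        haveI := isFpqc_whiskerLeft (𝟙_ (Over S)) q
        haveI : Epi (𝟙_ (Over S) ◁ q) := epi_of_isFpqc _
        rw [← cancel_epi (𝟙_ (Over S) ◁ q)]
        have e : (𝟙_ (Over S) ◁ q) ≫ (η[J'] ▷ P') = lift (1 : 𝟙_ (Over S) ⊗ (J' ⊗ T) ⟶ J') (snd _ _ ≫ q) := by
          apply CartesianMonoidalCategory.hom_ext
          · simp only [Category.assoc, CartesianMonoidalCategory.whiskerRight_fst,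
              CartesianMonoidalCategory.whiskerLeft_fst_assoc, lift_fst]
            rw [Hom.one_def]
            congr 1
            all_goals exact toUnit_unique _ _
          · simp only [Category.assoc, CartesianMonoidalCategory.whiskerRight_snd,
              CartesianMonoidalCategory.whiskerLeft_snd, lift_snd]
        rw [reassoc_of% e, hact, _root_.one_mul]
        rw [show lift ((snd (𝟙_ (Over S)) (J' ⊗ T)) ≫ fst J' T) ((snd (𝟙_ (Over S)) (J' ⊗ T)) ≫ snd J' T) =
          snd (𝟙_ (Over S)) (J' ⊗ T) by rw [← comp_lift, lift_fst_snd, Category.comp_id]]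
        exact (CartesianMonoidalCategory.whiskerLeft_snd (𝟙_ (Over S)) q).symm
      mul_act := by
        haveI := isFpqc_whiskerLeft (J' ⊗ J') q
        haveI : Epi ((J' ⊗ J') ◁ q) := epi_of_isFpqc _
        rw [← cancel_epi ((J' ⊗ J') ◁ q)]
        let g₁ := fst (J' ⊗ J') (J' ⊗ T) ≫ fst J' J'
        let g₂ := fst (J' ⊗ J') (J' ⊗ T) ≫ snd J' J'
        let w := snd (J' ⊗ J') (J' ⊗ T)
        have eA : ((J' ⊗ J') ◁ q) ≫ (μ[J'] ▷ P') = lift (g₁ * g₂) (w ≫ q) := by
          apply CartesianMonoidalCategory.hom_ext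
          · simp only [Category.assoc, CartesianMonoidalCategory.whiskerRight_fst,
              CartesianMonoidalCategory.whiskerLeft_fst_assoc, lift_fst]
            rw [Hom.mul_def]
            congr 1
            apply CartesianMonoidalCategory.hom_ext <;> simp [g₁, g₂]
          · simp [w]
        have eB : ((J' ⊗ J') ◁ q) ≫ (α_ J' J' P').hom ≫ (J' ◁ act) = lift g₁ (lift g₂ (w ≫ q) ≫ act) := by
          apply CartesianMonoidalCategory.hom_ext
          · simp [g₁]
          · simp only [Category.assoc, lift_snd, CartesianMonoidalCategory.whiskerLeft_snd]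
            simp only [← Category.assoc]
            congr 1
            apply CartesianMonoidalCategory.hom_ext <;> simp [g₂, w]
        rw [reassoc_of% eA, reassoc_of% eB, hact, hact, hact, lift_fst, lift_snd, _root_.mul_assoc] }
  have hact' : ∀ {Y : Over S} (c : Y ⟶ J') (w : Y ⟶ J' ⊗ T),
      lift c (w ≫ q) ≫ a'.act = lift (c * (w ≫ fst J' T)) (w ≫ snd J' T) ≫ q := hact
  -- it is a torsor
  have htor : NonAbH1.IsTorsorFor Scheme.fpqcPrecoverage a' := by
    refine (PrincBundLib.isTorsorFor_fpqc_iff a').2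
      ⟨_, SubDesc.mem_fpqc_of_isFpqc T.hom, ?_⟩
    rintro _ _ ⟨⟩
    let s : T ⟶ P' := lift 1 (𝟙 T) ≫ q
    refine ⟨s, (PrincBundLib.isIso_lift_snd_iff _).mpr fun Y z (w : Y ⟶ T) => ?_⟩
    obtain ⟨v, hv, hvq⟩ := hlift z w
    have key : ∀ c : Y ⟶ J', lift c w ≫ (J' ◁ s) ≫ a'.act = lift c w ≫ q := fun c => by
      rw [lift_whiskerLeft_assoc,
        show w ≫ s = (w ≫ lift (1 : T ⟶ J') (𝟙 T)) ≫ q from (Category.assoc _ _ _).symm, hact',
        comp_lift, lift_fst, lift_snd, MonObj.comp_one, _root_.mul_one, Category.comp_id]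
    refine ⟨v ≫ fst J' T, ?_, fun c hc => ?_⟩
    · show lift (v ≫ fst J' T) w ≫ (J' ◁ s) ≫ a'.act = z
      rw [key, ← hv, ← comp_lift, lift_fst_snd, Category.comp_id, hvq]
    · have : lift c w = v := hext _ _ (by rw [lift_snd, hv]) (by rw [← key, hc, hvq])
      rw [← this, lift_fst]
  -- the equivariant map
  haveI : SchDesc.IsFpqc (fst P.X T).left :=
    SchDesc.IsFpqc.of_isPullback (IsPullback.of_hasPullback P.X.hom T.hom).flip
  have hg : ∀ {Y : Over S} (e : Y ⟶ P.X) (x : Y ⟶ T), ∃! g : Y ⟶ J, lift g (x ≫ σ) ≫ P.act.act = e :=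
    fun e x => tP _ e (x ≫ σ)
  choose g hg₁ hg₂ using @hg
  let mF : P.X ⊗ T ⟶ P' := lift (g (fst P.X T) (snd P.X T) ≫ u) (snd P.X T) ≫ q
  have hmF : ∀ {Y : Over S} (e : Y ⟶ P.X) (x : Y ⟶ T) (k : Y ⟶ J), lift k (x ≫ σ) ≫ P.act.act = e →
      lift e x ≫ mF = lift (k ≫ u) x ≫ q := fun {Y} e x k hk => by
    simp only [mF, comp_lift_assoc, lift_snd]
    congr 2
    rw [← Category.assoc, show lift e x ≫ g (fst P.X T) (snd P.X T) = k from ?_]
    refine (hg₂ e x _ ?_).trans (hg₂ e x k hk).symm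
    have := congrArg (lift e x ≫ ·) (hg₁ (fst P.X T) (snd P.X T))
    simpa only [comp_lift_assoc, lift_fst, lift_snd_assoc] using this
  obtain ⟨f, hf⟩ := exists_desc (fst P.X T) mF fun Y z z' e => by
    rw [show z = lift (z ≫ fst P.X T) (z ≫ snd P.X T) by rw [← comp_lift, lift_fst_snd, Category.comp_id],
      show z' = lift (z' ≫ fst P.X T) (z' ≫ snd P.X T) by rw [← comp_lift, lift_fst_snd, Category.comp_id], ← e]
    set p := z ≫ fst P.X T
    set x := z ≫ snd P.X T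
    set y := z' ≫ snd P.X T
    rw [hmF p x (g p x) (hg₁ p x)]
    obtain ⟨h, hh, htr⟩ := tr_spec u tP σ x y
    rw [hmF p y (g p x * h) (by rw [AlgGrp.Action.lift_mul_act, hh, hg₁]),
      ← hinv _ (lift (g p x ≫ u) x) y]
    simp only [mv, lift_fst, lift_snd, htr, MonObj.mul_comp]
  refine ⟨⟨P', a', htor⟩, f, ?_⟩
  haveI : SchDesc.IsFpqc (fst (J ⊗ P.X) T).left :=
    SchDesc.IsFpqc.of_isPullback (IsPullback.of_hasPullback (J ⊗ P.X).hom T.hom).flip
  haveI : Epi (fst (J ⊗ P.X) T) := epi_of_isFpqc _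
  rw [← cancel_epi (fst (J ⊗ P.X) T)]
  let c := fst (J ⊗ P.X) T ≫ fst J P.X
  let e := fst (J ⊗ P.X) T ≫ snd J P.X
  let x := snd (J ⊗ P.X) T
  have e₁ : fst (J ⊗ P.X) T = lift c e := by rw [← comp_lift, lift_fst_snd, Category.comp_id]
  have hfe : ∀ {Y : Over S} (p : Y ⟶ P.X) (y : Y ⟶ T), p ≫ f = lift p y ≫ mF := fun p y => by
    rw [← hf, lift_fst_assoc]
  rw [e₁, ← Category.assoc (lift c e), hfe (lift c e ≫ P.act.act) x,
    hmF _ x (c * g e x) (by rw [AlgGrp.Action.lift_mul_act, hg₁]), comp_lift_assoc, lift_fst_assoc,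
    lift_snd_assoc, hfe e x, hmF _ x (g e x) (hg₁ e x)]
  show _ = lift (c ≫ u) (lift (g e x ≫ u) x ≫ q) ≫ a'.act
  rw [hact', lift_fst, lift_snd, MonObj.mul_comp]

end Groth.Agent.TorsorPush
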