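import Groth.Agent.PrincBundLib.Descent
import Groth.Agent.SchDesc.Effective
import Groth.Agent.SchDesc.Local
import Groth.Agent.SchDesc.QAff
import Groth.Agent.SchDesc.TorsorDesc

/-!
# The descent datum of a torsor pushed forward along a homomorphism
-/

set_option autoImplicit false
set_option linter.style.haveILetI false
set_option backward.isDefEq.respectTransparency false
set_option backward.isDefEq.respectTransparency.types false

universe u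

open CategoryTheory CategoryTheory.Limits MonoidalCategory CartesianMonoidalCategory MonObj
  AlgebraicGeometry

noncomputable section

namespace Groth.Agent.TorsorPush

variable {S : Scheme.{u}} {J J' P T : Over S} [GrpObj J] [GrpObj J'] (u : J ⟶ J') [IsMonHom u]
  {a : AlgGrp.Action J P}

/-- Unique transitivity on points. -/
abbrev Trans (a : AlgGrp.Action J P) : Prop :=
  ∀ (Y : Over S) (x w : Y ⟶ P), ∃! g : Y ⟶ J, lift g w ≫ a.act = x

variable (tP : Trans a) (σ : T ⟶ P)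

/-- The transition between two points of the trivializing cover. -/
def tr {Y : Over S} (x y : Y ⟶ T) : Y ⟶ J' := (tP Y (x ≫ σ) (y ≫ σ)).choose ≫ u

theorem tr_eq {Y : Over S} (x y : Y ⟶ T) (g : Y ⟶ J) (hg : lift g (y ≫ σ) ≫ a.act = x ≫ σ) :
    tr u tP σ x y = g ≫ u := by
  rw [tr, (tP Y (x ≫ σ) (y ≫ σ)).choose_spec.2 g hg]

theorem tr_spec {Y : Over S} (x y : Y ⟶ T) :
    ∃ g : Y ⟶ J, lift g (y ≫ σ) ≫ a.act = x ≫ σ ∧ tr u tP σ x y = g ≫ u :=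
  ⟨_, (tP Y (x ≫ σ) (y ≫ σ)).choose_spec.1, rfl⟩

theorem tr_self {Y : Over S} (x : Y ⟶ T) : tr u tP σ x x = 1 := by
  rw [tr_eq u tP σ x x 1 (AlgGrp.Action.lift_one_act _ _), MonObj.one_comp]

theorem tr_trans {Y : Over S} (x y z : Y ⟶ T) :
    tr u tP σ x y * tr u tP σ y z = tr u tP σ x z := by
  obtain ⟨g, hg, e⟩ := tr_spec u tP σ x y
  obtain ⟨g', hg', e'⟩ := tr_spec u tP σ y z
  rw [e, e', ← MonObj.mul_comp,
    ← tr_eq u tP σ x z (g * g') (by rw [AlgGrp.Action.lift_mul_act, hg', hg])]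

theorem comp_tr {Y Y' : Over S} (k : Y' ⟶ Y) (x y : Y ⟶ T) :
    k ≫ tr u tP σ x y = tr u tP σ (k ≫ x) (k ≫ y) := by
  obtain ⟨g, hg, e⟩ := tr_spec u tP σ x y
  rw [e, ← Category.assoc, tr_eq u tP σ (k ≫ x) (k ≫ y) (k ≫ g)]
  rw [Category.assoc, Category.assoc, ← comp_lift_assoc, hg]

/-- Moving a point of `J' × T` to another point of the cover. -/
def mv {Y : Over S} (w : Y ⟶ J' ⊗ T) (y : Y ⟶ T) : Y ⟶ J' ⊗ T :=
  lift ((w ≫ fst J' T) * tr u tP σ (w ≫ snd J' T) y) y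

theorem comp_mv {Y Y' : Over S} (k : Y' ⟶ Y) (w : Y ⟶ J' ⊗ T) (y : Y ⟶ T) :
    k ≫ mv u tP σ w y = mv u tP σ (k ≫ w) (k ≫ y) := by
  simp only [mv, comp_lift, MonObj.comp_mul, comp_tr, Category.assoc]

theorem mv_snd {Y : Over S} (w : Y ⟶ J' ⊗ T) (y : Y ⟶ T) : mv u tP σ w y ≫ snd J' T = y := lift_snd _ _

theorem mv_self {Y : Over S} (w : Y ⟶ J' ⊗ T) : mv u tP σ w (w ≫ snd J' T) = w := by
  apply CartesianMonoidalCategory.hom_ext <;> simp [mv, tr_self]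

theorem mv_mv {Y : Over S} (w : Y ⟶ J' ⊗ T) (y z : Y ⟶ T) :
    mv u tP σ (mv u tP σ w y) z = mv u tP σ w z := by
  simp only [mv, lift_fst, lift_snd, _root_.mul_assoc, tr_trans]

/-- Moving, on raw points. -/
def mvRaw {Y : Scheme.{u}} (v : Y ⟶ (J' ⊗ T).left) (y : Y ⟶ T.left) (h : v ≫ (J' ⊗ T).hom = y ≫ T.hom) :
    Y ⟶ (J' ⊗ T).left :=
  (mv u tP σ (Over.homMk v h : Over.mk (y ≫ T.hom) ⟶ J' ⊗ T) (Over.homMk y : Over.mk (y ≫ T.hom) ⟶ T)).left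

theorem mvRaw_left {Y : Over S} (w : Y ⟶ J' ⊗ T) (y : Y ⟶ T) (h : w.left ≫ (J' ⊗ T).hom = y.left ≫ T.hom) :
    mvRaw u tP σ w.left y.left h = (mv u tP σ w y).left := by
  let k : Over.mk (y.left ≫ T.hom) ⟶ Y := Over.homMk (𝟙 _) (by simp)
  have hw : (Over.homMk w.left h : Over.mk (y.left ≫ T.hom) ⟶ J' ⊗ T) = k ≫ w :=
    Over.OverMorphism.ext (Category.id_comp _).symm
  have hy : (Over.homMk y.left : Over.mk (y.left ≫ T.hom) ⟶ T) = k ≫ y :=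
    Over.OverMorphism.ext (Category.id_comp _).symm
  rw [mvRaw, hw, hy, ← comp_mv, Over.comp_left]
  exact Category.id_comp _

theorem mvRaw_snd {Y : Scheme.{u}} (v : Y ⟶ (J' ⊗ T).left) (y : Y ⟶ T.left)
    (h : v ≫ (J' ⊗ T).hom = y ≫ T.hom) : mvRaw u tP σ v y h ≫ (snd J' T).left = y :=
  congrArg (fun k => k.left) (mv_snd u tP σ (Over.homMk v h : Over.mk (y ≫ T.hom) ⟶ J' ⊗ T) (Over.homMk y))

theorem hcond {Y : Scheme.{u}} {x₀ x₁ : Y ⟶ T.left} (h : x₀ ≫ T.hom = x₁ ≫ T.hom)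
    (v : _root_.Desc.Lifts (Over.mk (snd J' T).left) x₀) : v.1 ≫ (J' ⊗ T).hom = x₁ ≫ T.hom := by
  have hv : v.1 ≫ (snd J' T).left = x₀ := v.2
  rw [← h]
  exact ((congrArg (v.1 ≫ ·) (Over.w (snd J' T)).symm).trans (Category.assoc _ _ _).symm).trans (congrArg (· ≫ T.hom) hv)

theorem mvRaw_mvRaw {Y : Scheme.{u}} (v : Y ⟶ (J' ⊗ T).left) (y z : Y ⟶ T.left)
    (h : v ≫ (J' ⊗ T).hom = y ≫ T.hom) (h' : mvRaw u tP σ v y h ≫ (J' ⊗ T).hom = z ≫ T.hom)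
    (h'' : v ≫ (J' ⊗ T).hom = z ≫ T.hom) :
    mvRaw u tP σ (mvRaw u tP σ v y h) z h' = mvRaw u tP σ v z h'' := by
  let Y₀ : Over S := Over.mk (z ≫ T.hom)
  let w : Y₀ ⟶ J' ⊗ T := Over.homMk v h''
  let y' : Y₀ ⟶ T := Over.homMk y (h.symm.trans h'')
  let z' : Y₀ ⟶ T := Over.homMk z
  have e₁ : mvRaw u tP σ v y h = (mv u tP σ w y').left := mvRaw_left u tP σ w y' h
  simp only [e₁]
  refine (mvRaw_left u tP σ (mv u tP σ w y') z' ?_).trans ?_
  rw [mv_mv]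
  exact (mvRaw_left u tP σ w z' h'').symm

theorem mvRaw_self {Y : Scheme.{u}} (v : Y ⟶ (J' ⊗ T).left) (y : Y ⟶ T.left)
    (h : v ≫ (J' ⊗ T).hom = y ≫ T.hom) (hy : v ≫ (snd J' T).left = y) : mvRaw u tP σ v y h = v := by
  subst hy
  let Y₀ : Over S := Over.mk (v ≫ (J' ⊗ T).hom)
  let w : Y₀ ⟶ J' ⊗ T := Over.homMk v
  refine (mvRaw_left u tP σ w (w ≫ snd J' T) h).trans ?_
  rw [mv_self]
  rfl

/-- The descent datum on `J' × T`. -/
def datum : _root_.Desc.SchDD T.hom where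
  obj := Over.mk (snd J' T).left
  φ Y x₀ x₁ h :=
    { toFun := fun v => ⟨mvRaw u tP σ v.1 x₁ (hcond h v), mvRaw_snd u tP σ v.1 x₁ (hcond h v)⟩
      invFun := fun v => ⟨mvRaw u tP σ v.1 x₀ (hcond h.symm v), mvRaw_snd u tP σ v.1 x₀ (hcond h.symm v)⟩
      left_inv := fun v => Subtype.ext ((mvRaw_mvRaw u tP σ v.1 x₁ x₀ _ _ (hcond rfl v)).trans
        (mvRaw_self u tP σ v.1 x₀ _ v.2))
      right_inv := fun v => Subtype.ext ((mvRaw_mvRaw u tP σ v.1 x₀ x₁ _ _ (hcond rfl v)).trans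
        (mvRaw_self u tP σ v.1 x₁ _ v.2)) }
  φ_natural Y Y' g x₀ x₁ h h' v v' e := by
    show mvRaw u tP σ v'.1 (g ≫ x₁) _ = g ≫ mvRaw u tP σ v.1 x₁ _
    let Y₁ : Over S := Over.mk (x₁ ≫ T.hom)
    let Y₂ : Over S := Over.mk ((g ≫ x₁) ≫ T.hom)
    let k : Y₂ ⟶ Y₁ := Over.homMk g (Category.assoc _ _ _).symm
    let w : Y₁ ⟶ J' ⊗ T := Over.homMk v.1 (hcond h v)
    let y : Y₁ ⟶ T := Over.homMk x₁
    simp only [e]
    refine (mvRaw_left u tP σ (k ≫ w) (k ≫ y) ((Over.w (k ≫ w)).trans (Over.w (k ≫ y)).symm)).trans ?_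
    rw [← comp_mv]
    exact congrArg (g ≫ ·) (mvRaw_left u tP σ w y (hcond h v)).symm
  φ_self Y x v := Subtype.ext (mvRaw_self u tP σ v.1 x _ v.2)
  φ_comp Y x₀ x₁ x₂ h₀₁ h₁₂ v := Subtype.ext
    (mvRaw_mvRaw u tP σ v.1 x₁ x₂ _ _ (hcond (h₀₁.trans h₁₂) v))

variable [IsAffineHom J'.hom] [SchDesc.IsFpqc T.hom]

/-- The quotient of `J' × T` exists, with its defining properties. -/
theorem exists_quotient :
    ∃ (P' : Over S) (q : J' ⊗ T ⟶ P'), IsPullback (snd J' T).left q.left T.hom P'.hom ∧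
      SchDesc.IsFpqc q.left ∧
      ∀ (Y : Over S) (w : Y ⟶ J' ⊗ T) (y : Y ⟶ T), mv u tP σ w y ≫ q = w ≫ q := by
  let D := datum u tP σ
  have haff : IsAffineHom D.obj.hom :=
    MorphismProperty.pullback_snd (P := @IsAffineHom) J'.hom T.hom ‹_›
  obtain ⟨Q⟩ := SchDesc.quot_top_of_affine @IsAffineHom
    (fun f g hf => MorphismProperty.pullback_snd (P := @IsAffineHom) f g hf) D haff
    fun Q U l q i hQ hU hl hl' _ _ _ _ D' hD' => by
      haveI : IsAffine D'.obj.left := isAffine_of_isAffineHom D'.obj.hom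
      exact SchDesc.quot_of_quasiAffine D'
  have hsq : IsPullback (snd J' T).left Q.π₀ T.hom Q.str := Q.isPullback₀
  have hw : Q.π₀ ≫ Q.str = (J' ⊗ T).hom := hsq.w.symm.trans (Over.w (snd J' T))
  refine ⟨Over.mk Q.str, Over.homMk Q.π₀ hw, hsq, SchDesc.IsFpqc.of_isPullback hsq, fun Y w y => ?_⟩
  refine Over.OverMorphism.ext ?_
  show (mv u tP σ w y).left ≫ Q.π₀ = w.left ≫ Q.π₀
  have hh : (w.left ≫ (snd J' T).left) ≫ T.hom = y.left ≫ T.hom :=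
    (Category.assoc _ _ _).trans ((congrArg (w.left ≫ ·) (Over.w (snd J' T))).trans ((Over.w w).trans (Over.w y).symm))
  refine Eq.trans ?_ (Q.inv₀ w.left y.left ((Category.assoc _ _ _).symm.trans hh))
  congr 1
  refine Eq.trans ?_ (SchDesc.φ_eq_move (D := D) (w.left ≫ (snd J' T).left) y.left hh ⟨w.left, rfl⟩)
  exact (mvRaw_left u tP σ w y _).symm

end Groth.Agent.TorsorPush
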